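/-
Extraspecial p-groups (helper70).

Main results (namespace `Cfsg.Agent.Extraspecial`):
* `relIndex_centralizer_eq`: if all commutators `[a,b]` lie in a central subgroup of order `p`, then
  `|A : C_A(B)| = |B : C_B(A)|`
* `pow_mem_center`, `commutatorElement_mem_center`, `center_ne_top`
* `card_mul_of_maximal`: a maximal abelian subgroup `A` has `|A|^2 = p |E|`
* `exists_card`: `|E| = p ^ (2 n + 1)` with `n ≥ 1`
* `card_abelian_sq_le`: an abelian subgroup has `|A|^2 ≤ p |E|`
-/
import Cfsg.Agent.Lib.PGroup.Basic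

set_option autoImplicit false
open scoped commutatorElement

namespace Cfsg.Agent.Extraspecial

variable {G : Type*} [Group G] [Finite G] {p : ℕ} [hp : Fact p.Prime]

theorem pair_count (A B K : Subgroup G) (hK : Nat.card K = p)
    (hcen : ∀ k ∈ K, ∀ g ∈ A ⊔ B, k * g = g * k) (hcom : ∀ a ∈ A, ∀ b ∈ B, ⁅a, b⁆ ∈ K) :
    Nat.card {x : A × B // ⁅(x.1 : G), (x.2 : G)⁆ = 1} * p =
      (p - 1) * (Nat.card ↥(A ⊓ Subgroup.centralizer (B : Set G)) * Nat.card B) +
        Nat.card A * Nat.card B := by
  classical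
  have := Fintype.ofFinite A
  have hA : ∀ {g : G}, g ∈ A → g ∈ A ⊔ B := fun h => Subgroup.mem_sup_left h
  have hB : ∀ {g : G}, g ∈ B → g ∈ A ⊔ B := fun h => Subgroup.mem_sup_right h
  let ψ : A → (B →* K) := fun a =>
    MonoidHom.mk' (fun b => ⟨⁅(a : G), (b : G)⁆, hcom a a.2 b b.2⟩) (fun b b' => Subtype.ext (by
      show ⁅(a : G), (b : G) * b'⁆ = ⁅(a : G), (b : G)⁆ * ⁅(a : G), (b' : G)⁆
      have h := hcen _ (hcom a a.2 b' b'.2) b (hB b.2)
      calc ⁅(a : G), (b : G) * b'⁆ = ⁅(a : G), (b : G)⁆ * ((b : G) * ⁅(a : G), (b' : G)⁆ * (b : G)⁻¹) := by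
            simp only [commutatorElement_def]; group
        _ = _ := by rw [← h, mul_inv_cancel_right]))
  have hker : ∀ a : A, Nat.card (ψ a).ker * p = Nat.card B + (if (a : G) ∈ Subgroup.centralizer (B : Set G) then (p - 1) * Nat.card B else 0) := by
    intro a
    split_ifs with h
    · have hk : (ψ a).ker = ⊤ := (Subgroup.eq_top_iff' _).mpr fun b => by
        rw [MonoidHom.mem_ker]
        apply Subtype.ext
        show ⁅(a : G), (b : G)⁆ = 1
        rw [commutatorElement_eq_one_iff_mul_comm]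
        exact (Subgroup.mem_centralizer_iff.mp h b b.2).symm
      rw [hk, Subgroup.card_top]
      obtain ⟨q, hq⟩ : ∃ q, p = q + 1 := ⟨p - 1, by have := hp.out.pos; omega⟩
      subst hq
      rw [Nat.add_sub_cancel]; ring
    · rw [add_zero, ← Subgroup.card_mul_index (ψ a).ker, Subgroup.index_ker]
      congr 1
      rcases (Nat.dvd_prime hp.out).mp (hK ▸ Subgroup.card_subgroup_dvd_card (ψ a).range) with h1 | h1
      · exfalso
        apply h
        rw [Subgroup.mem_centralizer_iff]
        intro b hb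
        have h2 : (ψ a) ⟨b, hb⟩ ∈ (ψ a).range := ⟨_, rfl⟩
        rw [Subgroup.eq_bot_of_card_eq _ h1, Subgroup.mem_bot] at h2
        exact (commutatorElement_eq_one_iff_mul_comm.mp (congrArg Subtype.val h2 : ⁅(a : G), b⁆ = 1)).symm
      · exact h1.symm
  have hsig : Nat.card {x : A × B // ⁅(x.1 : G), (x.2 : G)⁆ = 1} = ∑ a : A, Nat.card (ψ a).ker := by
    rw [← Nat.card_sigma]
    exact Nat.card_congr
      { toFun := fun x => ⟨x.1.1, ⟨x.1.2, Subtype.ext x.2⟩⟩
        invFun := fun s => ⟨(s.1, s.2.1), congrArg Subtype.val s.2.2⟩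
        left_inv := fun x => rfl
        right_inv := fun s => rfl }
  rw [hsig, Finset.sum_mul, Finset.sum_congr rfl (fun a _ => hker a), Finset.sum_add_distrib,
    Finset.sum_const, Finset.card_univ, ← Nat.card_eq_fintype_card, smul_eq_mul, add_comm,
    ← Finset.sum_filter, Finset.sum_const, smul_eq_mul]
  congr 1
  rw [← mul_assoc, mul_comm _ (p - 1), mul_assoc]
  congr 2
  rw [← Fintype.card_subtype, ← Nat.card_eq_fintype_card]
  exact Nat.card_congr
    { toFun := fun a => ⟨a.1.1, a.1.2, a.2⟩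
      invFun := fun a => ⟨⟨a.1, a.2.1⟩, a.2.2⟩
      left_inv := fun a => rfl
      right_inv := fun a => rfl }

/-- Symmetry of a commutator pairing into a central subgroup of prime order. -/
theorem relIndex_centralizer_eq (A B K : Subgroup G) (hK : Nat.card K = p)
    (hcen : ∀ k ∈ K, ∀ g ∈ A ⊔ B, k * g = g * k) (hcom : ∀ a ∈ A, ∀ b ∈ B, ⁅a, b⁆ ∈ K) :
    (A ⊓ Subgroup.centralizer (B : Set G)).relIndex A =
      (B ⊓ Subgroup.centralizer (A : Set G)).relIndex B := by
  have h1 := pair_count A B K hK hcen hcom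
  have h2 := pair_count B A K hK (fun k hk g hg => hcen k hk g (by rwa [sup_comm] at hg)) (fun b hb a ha => by
    rw [← commutatorElement_inv]; exact K.inv_mem (hcom a ha b hb))
  have h3 : Nat.card {x : B × A // ⁅(x.1 : G), (x.2 : G)⁆ = 1} =
      Nat.card {x : A × B // ⁅(x.1 : G), (x.2 : G)⁆ = 1} :=
    Nat.card_congr ((Equiv.prodComm B A).subtypeEquiv (fun x => by
      rw [commutatorElement_eq_one_iff_mul_comm, commutatorElement_eq_one_iff_mul_comm]
      exact eq_comm))
  rw [h3, h1, mul_comm (Nat.card B) (Nat.card A)] at h2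
  set cA := Nat.card ↥(A ⊓ Subgroup.centralizer (B : Set G))
  set cB := Nat.card ↥(B ⊓ Subgroup.centralizer (A : Set G))
  have h4 : cA * Nat.card B = cB * Nat.card A :=
    Nat.eq_of_mul_eq_mul_left (by have := hp.out.one_lt; omega) (Nat.add_right_cancel h2)
  have hA := Subgroup.card_mul_index ((A ⊓ Subgroup.centralizer (B : Set G)).subgroupOf A)
  have hB := Subgroup.card_mul_index ((B ⊓ Subgroup.centralizer (A : Set G)).subgroupOf B)
  rw [Nat.card_congr (Subgroup.subgroupOfEquivOfLe inf_le_left).toEquiv] at hA hB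
  apply Nat.eq_of_mul_eq_mul_left (Nat.mul_pos (Nat.card_pos : 0 < cA) (Nat.card_pos : 0 < cB))
  calc cA * cB * (A ⊓ Subgroup.centralizer (B : Set G)).relIndex A = cB * Nat.card A := by
        rw [← hA]; unfold Subgroup.relIndex; ring
    _ = cA * Nat.card B := h4.symm
    _ = _ := by rw [← hB]; unfold Subgroup.relIndex; ring

section extraspecial

variable {E : Type*} [Group E] [Finite E] (hE : Cfsg.IsExtraspecial p E)
include hE

omit [Finite E] in
theorem commutatorElement_mem_center (x y : E) : ⁅x, y⁆ ∈ Subgroup.center E :=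
  hE.1.2.2.le (Subgroup.commutator_mem_commutator (Subgroup.mem_top x) (Subgroup.mem_top y))

theorem pow_mem_center (x : E) : x ^ p ∈ Subgroup.center E :=
  hE.1.2.1.le (PGroup.pow_mem_frattini hE.1.1 x)

omit [Finite E] in
theorem center_ne_top : Subgroup.center E ≠ ⊤ := by
  intro h
  have h1 : commutator E = ⊥ := by
    rw [commutator_def, Subgroup.commutator_eq_bot_iff_le_centralizer]
    intro a _
    rw [Subgroup.mem_centralizer_iff]
    intro b _
    exact Subgroup.mem_center_iff.mp (h ▸ Subgroup.mem_top a) b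
  have h2 := hE.2
  rw [← hE.1.2.2, h1, Subgroup.card_bot] at h2
  exact hp.out.one_lt.ne h2

theorem card_mul_of_maximal {A : Subgroup E} (hA : Subgroup.centralizer (A : Set E) = A) :
    Nat.card A * Nat.card A = p * Nat.card E := by
  have h := relIndex_centralizer_eq A ⊤ (Subgroup.center E) hE.2
    (fun k hk g _ => (Subgroup.mem_center_iff.mp hk g).symm) (fun a _ b _ => commutatorElement_mem_center hE a b)
  have hZA : Subgroup.center E ≤ A := hA ▸ Subgroup.center_le_centralizer _
  rw [Subgroup.coe_top, Subgroup.centralizer_univ, inf_eq_right.mpr hZA, top_inf_eq, hA,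
    Subgroup.relIndex_top_right] at h
  have h1 := Subgroup.card_mul_index ((Subgroup.center E).subgroupOf A)
  rw [Nat.card_congr (Subgroup.subgroupOfEquivOfLe hZA).toEquiv, hE.2] at h1
  change p * (Subgroup.center E).relIndex A = Nat.card A at h1
  rw [h] at h1
  calc Nat.card A * Nat.card A = Nat.card A * (p * A.index) := by rw [h1]
    _ = p * (Nat.card A * A.index) := by ring
    _ = _ := by rw [A.card_mul_index]

omit hE in
theorem exists_maximal_abelian (A₀ : Subgroup E) (h : ∀ a ∈ A₀, ∀ b ∈ A₀, a * b = b * a) :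
    ∃ A : Subgroup E, A₀ ≤ A ∧ Subgroup.centralizer (A : Set E) = A := by
  obtain ⟨A, hle, hA, hmax⟩ := exists_maximal_ge_of_wellFoundedGT
    (fun A : Subgroup E => ∀ a ∈ A, ∀ b ∈ A, a * b = b * a) A₀ h
  refine ⟨A, hle, le_antisymm (fun x hx => ?_) fun a ha => Subgroup.mem_centralizer_iff.mpr fun b hb => hA b hb a ha⟩
  have hle' : A ⊔ Subgroup.zpowers x ≤ A := by
    refine hmax ?_ le_sup_left
    have h1 : A ⊔ Subgroup.zpowers x ≤
        Subgroup.centralizer ((A ⊔ Subgroup.zpowers x : Subgroup E) : Set E) := by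
      have hcl : ((A : Set E) ∪ {x}) ⊆ (A ⊔ Subgroup.zpowers x : Subgroup E) := by
        rintro y (hy | rfl)
        · exact Subgroup.mem_sup_left hy
        · exact Subgroup.mem_sup_right (Subgroup.mem_zpowers y)
      have heq : A ⊔ Subgroup.zpowers x = Subgroup.closure ((A : Set E) ∪ {x}) := by
        rw [Subgroup.closure_union, Subgroup.closure_eq, Subgroup.zpowers_eq_closure]
      rw [heq, Subgroup.centralizer_closure]
      refine (Subgroup.closure_le _).mpr ?_
      rintro y hy
      rw [SetLike.mem_coe, Subgroup.mem_centralizer_iff]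
      rintro z (hz | rfl)
      · rcases hy with hy | rfl
        · exact hA z hz y hy
        · exact Subgroup.mem_centralizer_iff.mp hx z hz
      · rcases hy with hy | rfl
        · exact (Subgroup.mem_centralizer_iff.mp hx y hy).symm
        · rfl
    intro a ha b hb
    exact (Subgroup.mem_centralizer_iff.mp (h1 ha) b hb).symm
  exact hle' (Subgroup.mem_sup_right (Subgroup.mem_zpowers x))

/-- The order of an extraspecial group. -/
theorem exists_card : ∃ n : ℕ, 1 ≤ n ∧ Nat.card E = p ^ (2 * n + 1) := by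
  obtain ⟨A, -, hA⟩ := exists_maximal_abelian (⊥ : Subgroup E)
    (fun a ha b hb => by rw [Subgroup.mem_bot] at ha hb; rw [ha, hb])
  obtain ⟨k, hk⟩ := IsPGroup.iff_card.mp (hE.1.1.to_subgroup A)
  obtain ⟨m, hm⟩ := IsPGroup.iff_card.mp hE.1.1
  have h := card_mul_of_maximal hE hA
  rw [hk, hm, ← pow_add, ← pow_succ'] at h
  have h' := Nat.pow_right_injective hp.out.two_le h
  have hm2 : 2 ≤ m := by
    by_contra hlt
    apply center_ne_top hE
    apply Subgroup.eq_top_of_le_card
    rw [hE.2, hm]
    calc p ^ m ≤ p ^ 1 := Nat.pow_le_pow_right hp.out.pos (by omega)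
      _ = p := pow_one p
  exact ⟨k - 1, by omega, by rw [hm]; congr 1; omega⟩

/-- Abelian subgroups of an extraspecial group are small. -/
theorem card_abelian_sq_le {A : Subgroup E} (hA : ∀ a ∈ A, ∀ b ∈ A, a * b = b * a) :
    Nat.card A * Nat.card A ≤ p * Nat.card E := by
  obtain ⟨M, hle, hM⟩ := exists_maximal_abelian A hA
  have := Subgroup.card_le_of_le hle
  exact (Nat.mul_le_mul this this).trans (card_mul_of_maximal hE hM).le

end extraspecial

end Cfsg.Agent.Extraspecial
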