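/-
Cyclic fixed-point-free groups of automorphisms of extraspecial groups (helper70).

Main results (namespace `Cfsg.Agent.Extraspecial`):
* `dvd_card_sub_one`: a semiregular cyclic group of automorphisms of order `h` has `h ∣ |S| - 1`
* `exists_dvd_pow_add_one`: an irreducible automorphism preserving a nondegenerate form has order
  dividing `p ^ i + 1` for some `i`
* `dvd_pow_pm`: a cyclic fixed-point-free automorphism group of order `h` of an extraspecial group
  of order `p ^ (2 n + 1)` has `h ∣ p ^ n + 1` or `h ∣ p ^ n - 1`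
-/
import Cfsg.Agent.Lib.Extraspecial.Basic
import Cfsg.Agent.Lib.PGroup.Critical

set_option autoImplicit false
set_option linter.style.haveILetI false
open scoped commutatorElement

set_option maxHeartbeats 400000

namespace Cfsg.Agent.Extraspecial

open Subgroup

/-- A semiregular automorphism of order `h`: `h` divides the number of nonidentity elements. -/
theorem dvd_card_sub_one {V : Type*} [Group V] [Finite V] {φ : MulAut V} {h : ℕ} (hh : 0 < h)
    (hord : φ ^ h = 1) (hfpf : ∀ k : ℕ, ¬ h ∣ k → ∀ v, (φ ^ k) v = v → v = 1)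
    {S : Subgroup V} (hS : ∀ v ∈ S, φ v ∈ S) : h ∣ Nat.card S - 1 := by
  rcases subsingleton_or_nontrivial V with hV | hV
  · haveI : Subsingleton S := inferInstance
    rw [Nat.card_of_subsingleton (1 : S)]
    simp
  have hφ : orderOf φ = h := by
    refine Nat.dvd_antisymm (orderOf_dvd_of_pow_eq_one hord) ?_
    by_contra hcon
    obtain ⟨v, hv⟩ := exists_ne (1 : V)
    exact hv (hfpf _ hcon v (by rw [pow_orderOf_eq_one]; rfl))
  have hSk : ∀ (k : ℕ), ∀ v ∈ S, (φ ^ k) v ∈ S := by
    intro k
    induction k with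
    | zero => intro v hv; simpa using hv
    | succ k ih => intro v hv; rw [pow_succ', MulAut.mul_apply]; exact hS _ (ih v hv)
  have hpow : ∀ g : zpowers φ, ∃ k : ℕ, φ ^ k = (g : MulAut V) := fun g =>
    (mem_powers_iff_mem_zpowers.mpr g.2)
  let inst : MulAction (zpowers φ) {v : V // v ∈ S ∧ v ≠ 1} :=
    { smul := fun g v => ⟨(g : MulAut V) v.1, by
        obtain ⟨k, hk⟩ := hpow g
        rw [← hk]; exact hSk k _ v.2.1, fun e => v.2.2 (by
        apply (g : MulAut V).injective; rw [e, map_one])⟩
      one_smul := fun v => Subtype.ext rfl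
      mul_smul := fun a b v => Subtype.ext rfl }
  have hstab : ∀ v : {v : V // v ∈ S ∧ v ≠ 1}, MulAction.stabilizer (zpowers φ) v = ⊥ := by
    intro v
    rw [eq_bot_iff_forall]
    intro g hg
    obtain ⟨k, hk⟩ := hpow g
    have h1 : (φ ^ k) v.1 = v.1 := by rw [hk]; exact congrArg Subtype.val hg
    have h2 : h ∣ k := by
      by_contra hcon
      exact v.2.2 (hfpf k hcon _ h1)
    refine Subtype.ext ?_
    rw [← hk, OneMemClass.coe_one, ← orderOf_dvd_iff_pow_eq_one, hφ]
    exact h2
  have hcard : Nat.card {v : V // v ∈ S ∧ v ≠ 1} =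
      Nat.card (MulAction.orbitRel.Quotient (zpowers φ) {v : V // v ∈ S ∧ v ≠ 1}) *
        Nat.card (zpowers φ) := by
    rw [← Nat.card_prod]
    refine Nat.card_congr ((MulAction.selfEquivSigmaOrbitsQuotientStabilizer _ _).trans
      (Equiv.sigmaEquivProdOfEquiv fun ω => ?_))
    rw [hstab]
    exact (QuotientGroup.quotientBot (G := zpowers φ)).toEquiv
  have hS1 : Nat.card {v : V // v ∈ S ∧ v ≠ 1} = Nat.card S - 1 := by
    classical
    haveI := Fintype.ofFinite V
    rw [Nat.card_eq_fintype_card, Nat.card_eq_fintype_card, Fintype.card_subtype, Fintype.card_subtype,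
      show (Finset.univ.filter fun v : V => v ∈ S ∧ v ≠ 1) = (Finset.univ.filter (· ∈ S)).erase 1 by
        ext v; simp [and_comm], Finset.card_erase_of_mem (by simp)]
  rw [← hS1, hcard, Nat.card_zpowers, hφ]
  exact dvd_mul_left _ _

/-- Application of an additive endomorphism, written multiplicatively. -/
def endApp {Q : Type*} [CommGroup Q] (e : AddMonoid.End (Additive Q)) (u : Q) : Q :=
  Additive.toMul (e (Additive.ofMul u))

section endApp

variable {Q : Type*} [CommGroup Q] (a b : AddMonoid.End (Additive Q)) (u v : Q)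

theorem endApp_map_mul : endApp a (u * v) = endApp a u * endApp a v := by
  show Additive.toMul (a (Additive.ofMul u + Additive.ofMul v)) = _
  rw [map_add]; rfl

theorem endApp_map_one : endApp a (1 : Q) = 1 := by
  show Additive.toMul (a 0) = _
  rw [map_zero]; rfl

theorem endApp_ext (h : ∀ u, endApp a u = endApp b u) : a = b :=
  AddMonoidHom.ext fun x => h (Additive.toMul x)

theorem endApp_zero : endApp (0 : AddMonoid.End (Additive Q)) u = 1 := rfl

theorem endApp_id : endApp (1 : AddMonoid.End (Additive Q)) u = u := rfl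

theorem endApp_add : endApp (a + b) u = endApp a u * endApp b u := rfl

theorem endApp_neg : endApp (-a) u = (endApp a u)⁻¹ := rfl

theorem endApp_comp : endApp (a * b) u = endApp a (endApp b u) := rfl

theorem endApp_natCast (k : ℕ) : endApp (k : AddMonoid.End (Additive Q)) u = u ^ k := by
  show Additive.toMul ((k : AddMonoid.End (Additive Q)) (Additive.ofMul u)) = _
  rw [AddMonoid.End.natCast_apply, toMul_nsmul]
  rfl

end endApp

/-- An irreducible automorphism preserving a nondegenerate pairing has order dividing `p ^ i + 1`. -/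
theorem exists_dvd_pow_add_one {Q M : Type*} [CommGroup Q] [Finite Q] [Nontrivial Q] [Group M]
    {p : ℕ} [hp : Fact p.Prime] (hexp : ∀ q : Q, q ^ p = 1) (x : MulAut Q)
    (hirr : ∀ S : Subgroup Q, (∀ q ∈ S, x q ∈ S) → S = ⊥ ∨ S = ⊤)
    (ω : Q → Q → M) (hl : ∀ a b v, ω (a * b) v = ω a v * ω b v)
    (hr : ∀ u a b, ω u (a * b) = ω u a * ω u b) (hnd : ∀ v, (∀ u, ω u v = 1) → v = 1)
    (hinv : ∀ u v, ω (x u) (x v) = ω u v) : ∃ i : ℕ, orderOf x ∣ p ^ i + 1 := by
  classical
  let E := AddMonoid.End (Additive Q)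
  let xe : E := MonoidHom.toAdditive x.toMonoidHom
  have hx : ∀ u, endApp xe u = x u := fun u => rfl
  let R : Subring E := Subring.closure {xe}
  have hcomm : ∀ a ∈ R, ∀ b ∈ R, a * b = b * a := by
    have h1 : ∀ a ∈ R, Commute xe a := by
      intro a ha
      induction ha using Subring.closure_induction with
      | mem a ha => rw [Set.mem_singleton_iff.mp ha]
      | zero => exact Commute.zero_right _
      | one => exact Commute.one_right _
      | add a b _ _ ha hb => exact ha.add_right hb
      | neg a _ ha => exact ha.neg_right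
      | mul a b _ _ ha hb => exact ha.mul_right hb
    intro a ha b hb
    induction hb using Subring.closure_induction with
    | mem b hb => rw [Set.mem_singleton_iff.mp hb]; exact (h1 a ha).eq.symm
    | zero => rw [mul_zero, zero_mul]
    | one => rw [mul_one, one_mul]
    | add b c _ _ hb hc => rw [mul_add, add_mul, hb, hc]
    | neg b _ hb => exact (Commute.neg_right (show Commute a b from hb)).eq
    | mul b c _ _ hb hc => rw [← mul_assoc, hb, mul_assoc, hc, mul_assoc]
  letI : CommRing R :=
    { (inferInstance : Ring R) with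
      mul_comm := fun a b => Subtype.ext (hcomm a a.2 b b.2) }
  haveI : Finite E := Finite.of_injective (fun e : E => (e : Additive Q → Additive Q)) DFunLike.coe_injective
  haveI : Finite R := inferInstance
  haveI : Nontrivial R := by
    refine ⟨⟨1, 0, fun e => ?_⟩⟩
    obtain ⟨q, hq⟩ := exists_ne (1 : Q)
    have := congrArg (fun r : R => endApp r.1 q) e
    simp only [OneMemClass.coe_one, ZeroMemClass.coe_zero, endApp_id, endApp_zero] at this
    exact hq this
  have hinj : ∀ a : R, a ≠ 0 → ∀ q, endApp a.1 q = 1 → q = 1 := by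
    intro a ha
    let S : Subgroup Q :=
      { carrier := {q | endApp a.1 q = 1}
        one_mem' := endApp_map_one a.1
        mul_mem' := fun {u v} hu hv => by
          show endApp a.1 (u * v) = 1
          rw [endApp_map_mul, hu, hv, one_mul]
        inv_mem' := fun {u} hu => by
          show endApp a.1 u⁻¹ = 1
          have := endApp_map_mul a.1 u u⁻¹
          rw [mul_inv_cancel, endApp_map_one, hu, one_mul] at this
          exact this.symm }
    have hS : ∀ q ∈ S, x q ∈ S := fun q hq => by
      show endApp (a.1 * xe) q = 1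
      rw [hcomm a a.2 xe (Subring.subset_closure rfl)]
      rw [endApp_comp, hx, hq, map_one]
    rcases hirr S hS with h | h
    · exact fun q hq => by simpa [h] using (show q ∈ S from hq)
    · exact absurd (Subtype.ext (endApp_ext a.1 0 fun u => by
        rw [endApp_zero]
        exact (h ▸ mem_top u : u ∈ S))) ha
  haveI : NoZeroDivisors R := ⟨fun {a b} hab => by
    by_contra hcon
    push Not at hcon
    refine hcon.2 (Subtype.ext (endApp_ext b.1 0 fun u => ?_))
    rw [endApp_zero]
    refine hinj a hcon.1 _ ?_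
    have := congrArg (fun r : R => endApp r.1 u) hab
    simp only [Subring.coe_mul, ZeroMemClass.coe_zero, endApp_zero] at this
    exact (endApp_comp _ _ _).symm.trans this⟩
  haveI : IsDomain R := NoZeroDivisors.to_isDomain R
  letI : Field R := (Finite.isField_of_domain R).toField
  haveI : CharP R p := by
    rw [CharP.charP_iff_prime_eq_zero hp.out]
    refine Subtype.ext (endApp_ext _ _ fun u => ?_)
    rw [show (((p : R)) : E) = (p : E) from map_natCast R.subtype p, endApp_natCast, hexp,
      ZeroMemClass.coe_zero, endApp_zero]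
  letI : Algebra (ZMod p) R := ZMod.algebra R p
  -- adjoints
  have hω1l : ∀ v, ω 1 v = 1 := fun v => by simpa using hl 1 1 v
  have hω1r : ∀ u, ω u 1 = 1 := fun u => by simpa using hr u 1 1
  have hωil : ∀ a v, ω a⁻¹ v = (ω a v)⁻¹ := fun a v => eq_inv_of_mul_eq_one_left (by
    rw [← hl, inv_mul_cancel, hω1l])
  have hωir : ∀ u a, ω u a⁻¹ = (ω u a)⁻¹ := fun u a => eq_inv_of_mul_eq_one_left (by
    rw [← hr, inv_mul_cancel, hω1r])
  let Adj : E → E → Prop := fun e e' => ∀ u v, ω (endApp e u) v = ω u (endApp e' v)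
  have huniq : ∀ {e e' e'' : E}, Adj e e' → Adj e e'' → e' = e'' := by
    intro e e' e'' h h'
    refine endApp_ext _ _ fun v => mul_inv_eq_one.mp (hnd _ fun u => ?_)
    rw [hr, hωir, ← h, ← h', mul_inv_cancel]
  have hpowapp : ∀ (k : ℕ) q, endApp (xe ^ k) q = (x ^ k) q := by
    intro k
    induction k with
    | zero => intro q; rw [pow_zero, pow_zero, endApp_id]; rfl
    | succ k ih =>
      intro q
      rw [pow_succ', pow_succ', MulAut.mul_apply, endApp_comp, hx, ih]
  let m := orderOf x - 1
  have hm : m + 1 = orderOf x := Nat.sub_add_cancel (orderOf_pos x)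
  have hadjx : Adj xe (xe ^ m) := fun u v => by
    rw [hpowapp]
    rw [hx]
    rw [← hinv u ((x ^ m) v), ← MulAut.mul_apply, ← pow_succ', hm, pow_orderOf_eq_one]
    rfl
  have hex : ∀ e ∈ R, ∃ e' ∈ R, Adj e e' := by
    intro e he
    induction he using Subring.closure_induction with
    | mem e he =>
      rw [Set.mem_singleton_iff.mp he]
      exact ⟨xe ^ m, R.toSubmonoid.pow_mem (Subring.subset_closure (Set.mem_singleton xe)) m, hadjx⟩
    | zero => exact ⟨0, R.zero_mem, fun u v => by rw [endApp_zero, endApp_zero, hω1l, hω1r]⟩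
    | one => exact ⟨1, R.one_mem, fun u v => by rw [endApp_id, endApp_id]⟩
    | add a b _ _ ha hb =>
      obtain ⟨a', ha', ha⟩ := ha
      obtain ⟨b', hb', hb⟩ := hb
      refine ⟨a' + b', R.add_mem ha' hb', fun u v => ?_⟩
      rw [endApp_add, endApp_add, hl, hr, ha, hb]
    | neg a _ ha =>
      obtain ⟨a', ha', ha⟩ := ha
      refine ⟨-a', R.neg_mem ha', fun u v => ?_⟩
      rw [endApp_neg, endApp_neg, hωil, hωir, ha]
    | mul a b _ _ ha hb =>
      obtain ⟨a', ha', ha⟩ := ha
      obtain ⟨b', hb', hb⟩ := hb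
      refine ⟨b' * a', R.mul_mem hb' ha', fun u v => ?_⟩
      rw [endApp_comp, endApp_comp, ha, hb]
  choose σf hσR hσ using hex
  let σ : R →+* R :=
    { toFun := fun a => ⟨σf a.1 a.2, hσR a.1 a.2⟩
      map_one' := Subtype.ext (huniq (hσ _ _) (fun u v => by
        rw [OneMemClass.coe_one, endApp_id, endApp_id]))
      map_zero' := Subtype.ext (huniq (hσ _ _) (fun u v => by
        rw [ZeroMemClass.coe_zero, endApp_zero, endApp_zero, hω1l, hω1r]))
      map_add' := fun a b => Subtype.ext (huniq (hσ _ _) (fun u v => by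
        rw [Subring.coe_add, Subring.coe_add, endApp_add, endApp_add, hl, hr, hσ a.1 a.2, hσ b.1 b.2]))
      map_mul' := fun a b => Subtype.ext (huniq (hσ _ _) (fun u v => by
        rw [Subring.coe_mul, Subring.coe_mul, hcomm _ (hσR a.1 a.2) _ (hσR b.1 b.2), endApp_comp,
          endApp_comp, hσ a.1 a.2, hσ b.1 b.2])) }
  let xr : R := ⟨xe, Subring.subset_closure rfl⟩
  have hσx : σ xr = xr ^ m := Subtype.ext (by
    rw [SubmonoidClass.coe_pow]
    exact huniq (hσ _ _) hadjx)
  let σa : R →ₐ[ZMod p] R :=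
    { σ with
      commutes' := fun r => RingHom.congr_fun
        (Subsingleton.elim (σ.comp (algebraMap (ZMod p) R)) (algebraMap (ZMod p) R)) r }
  obtain ⟨⟨i, _⟩, hi⟩ := (FiniteField.bijective_frobeniusAlgHom_pow (ZMod p) R).2 σa
  refine ⟨i, ?_⟩
  have h1 : xr ^ (p ^ i) = xr ^ m := by
    rw [← hσx]
    have := DFunLike.congr_fun hi xr
    rw [AlgHom.coe_pow, FiniteField.coe_frobeniusAlgHom, pow_iterate, ZMod.card] at this
    exact this
  have h2 : xe ^ (p ^ i + 1) = xe ^ orderOf x := by
    rw [← hm, pow_succ, pow_succ]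
    exact congrArg (fun r : R => (r : E) * xe) h1
  rw [orderOf_dvd_iff_pow_eq_one]
  ext q
  rw [← hpowapp, h2, hpowapp, pow_orderOf_eq_one]

theorem mem_zpowers_neg_one {h p i n : ℕ} (hi : h ∣ p ^ i + 1) (hn : h ∣ p ^ (2 * n) - 1)
    (hp : 0 < p) : h ∣ p ^ n + 1 ∨ h ∣ p ^ n - 1 := by
  classical
  rcases Nat.lt_or_ge h 3 with hh | hh
  · right
    interval_cases h
    · simp only [zero_dvd_iff] at hi
      omega
    · exact one_dvd _
    · have h1 : 1 ≤ p ^ (2 * n) := Nat.one_le_pow _ _ hp
      have h2 : 1 ≤ p ^ n := Nat.one_le_pow _ _ hp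
      rw [show 2 * n = n + n by ring, pow_add] at hn h1
      rcases Nat.even_or_odd (p ^ n) with he | ho
      · exfalso
        have := he.mul_right (p ^ n)
        obtain ⟨a, ha⟩ := this
        obtain ⟨b, hb⟩ := hn
        omega
      · obtain ⟨a, ha⟩ := ho
        exact ⟨a, by omega⟩
  haveI : NeZero h := ⟨by omega⟩
  haveI : Fact (2 < h) := ⟨by omega⟩
  have hi0 : ((p : ZMod h)) ^ i = -1 := by
    rw [eq_neg_iff_add_eq_zero]
    have := (ZMod.natCast_eq_zero_iff (p ^ i + 1) h).mpr hi
    simpa using this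
  have hn0 : ((p : ZMod h)) ^ (2 * n) = 1 := by
    have h1 := (ZMod.natCast_eq_zero_iff (p ^ (2 * n) - 1) h).mpr hn
    rw [Nat.cast_sub (Nat.one_le_pow _ _ hp)] at h1
    simpa [sub_eq_zero] using h1
  rcases Nat.eq_zero_or_pos n with rfl | hn1
  · right; simp
  obtain ⟨u, hu⟩ : IsUnit (p : ZMod h) :=
    IsUnit.of_mul_eq_one ((p : ZMod h) ^ (2 * n - 1)) (by
      rw [← pow_succ', show 2 * n - 1 + 1 = 2 * n by omega, hn0])
  have hneg : u ^ i = -1 := Units.ext (by rw [Units.val_pow_eq_pow_val, hu, hi0]; simp)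
  have hsq : (u ^ n) ^ 2 = 1 := Units.ext (by
    rw [← pow_mul, Units.val_pow_eq_pow_val, hu, mul_comm n, hn0, Units.val_one])
  have hord : orderOf (-1 : (ZMod h)ˣ) = 2 := by
    refine orderOf_eq_prime (by simp) fun e => ?_
    exact ZMod.neg_one_ne_one (n := h) (by simpa using congrArg Units.val e)
  have hmem : u ^ n = 1 ∨ u ^ n = -1 := by
    haveI : IsCyclic (zpowers u) := inferInstance
    haveI := Fintype.ofFinite (zpowers u)
    by_contra hcon
    push Not at hcon
    have hsub : ({1, (⟨-1, hneg ▸ pow_mem (mem_zpowers u) i⟩ : zpowers u),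
        ⟨u ^ n, pow_mem (mem_zpowers u) n⟩} : Finset (zpowers u)) ⊆
        Finset.univ.filter (fun a => a ^ 2 = 1) := by
      intro a ha
      simp only [Finset.mem_insert, Finset.mem_singleton] at ha
      refine Finset.mem_filter.mpr ⟨Finset.mem_univ _, ?_⟩
      rcases ha with rfl | rfl | rfl
      · exact one_pow 2
      · exact Subtype.ext (by simp)
      · exact Subtype.ext hsq
    have h3 := (Finset.card_le_card hsub).trans (IsCyclic.card_pow_eq_one_le (by norm_num))
    rw [Finset.card_eq_three.mpr ⟨_, _, _, ?_, ?_, ?_, rfl⟩] at h3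
    · omega
    · intro e
      exact ZMod.neg_one_ne_one (n := h) (by simpa using congrArg (fun a : zpowers u => (a.1 : ZMod h)) e.symm)
    · exact fun e => hcon.1 (congrArg Subtype.val e).symm
    · exact fun e => hcon.2 (congrArg Subtype.val e).symm
  have hcast : ((p : ZMod h)) ^ n = ((u ^ n : (ZMod h)ˣ) : ZMod h) := by
    rw [Units.val_pow_eq_pow_val, hu]
  rcases hmem with e | e
  · right
    rw [← ZMod.natCast_eq_zero_iff, Nat.cast_sub (Nat.one_le_pow _ _ hp)]
    push_cast
    rw [hcast, e, Units.val_one, sub_self]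
  · left
    rw [← ZMod.natCast_eq_zero_iff]
    push_cast
    rw [hcast, e]
    simp

/-- Fixed-point-free cyclic automorphism groups of extraspecial groups. -/
theorem dvd_pow_pm {P : Type*} [Group P] [Finite P] {p : ℕ} [hp : Fact p.Prime]
    (hE : Cfsg.IsExtraspecial p P) {n : ℕ} (hn : Nat.card P = p ^ (2 * n + 1)) (φ : MulAut P)
    {h : ℕ} (hh : 0 < h) (hcop : h.Coprime p) (hord : φ ^ h = 1)
    (hfix : ∀ k : ℕ, ¬ h ∣ k → ∀ u, (φ ^ k) u = u → u ∈ center P)
    (hcent : ∀ u ∈ center P, φ u = u) : h ∣ p ^ n + 1 ∨ h ∣ p ^ n - 1 := by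
  classical
  set Z := center P with hZdef
  let N := P ⧸ center P
  letI : CommGroup N :=
    { (inferInstance : Group N) with
      mul_comm := fun a b => by
        induction a using QuotientGroup.induction_on with | H a => ?_
        induction b using QuotientGroup.induction_on with | H b => ?_
        refine QuotientGroup.eq.mpr ?_
        have := commutatorElement_mem_center hE b⁻¹ a⁻¹
        simpa [commutatorElement_def, mul_assoc] using this }
  have hexp : ∀ v : N, v ^ p = 1 := fun v => by
    induction v using QuotientGroup.induction_on with | H a => ?_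
    rw [← QuotientGroup.mk_pow, QuotientGroup.eq_one_iff]
    exact pow_mem_center hE a
  have hφmap : (center P).map (φ : P ≃* P).toMonoidHom = center P := by
    refine le_antisymm ?_ (fun u hu => ⟨u, hu, hcent u hu⟩)
    rintro _ ⟨u, hu, rfl⟩
    show φ u ∈ _
    rw [hcent u hu]; exact hu
  let ψ : MulAut N := QuotientGroup.congr (center P) (center P) φ hφmap
  have hψ : ∀ (k : ℕ) (u : P), (ψ ^ k) (u : N) = (((φ ^ k) u : P) : N) := by
    intro k
    induction k with
    | zero => intro u; rfl
    | succ k ih =>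
      intro u
      rw [pow_succ', pow_succ', MulAut.mul_apply, ih, MulAut.mul_apply]
      rfl
  have hcentk : ∀ (k : ℕ), ∀ c ∈ center P, (φ ^ k) c = c := by
    intro k c hc
    induction k with
    | zero => rfl
    | succ k ih => rw [pow_succ', MulAut.mul_apply, ih, hcent c hc]
  have hψh : ψ ^ h = 1 := by
    ext v
    induction v using QuotientGroup.induction_on with | H u => ?_
    rw [hψ, hord]; rfl
  have hfpf : ∀ k : ℕ, ¬ h ∣ k → ∀ v, (ψ ^ k) v = v → v = 1 := by
    intro k hk v hv
    induction v using QuotientGroup.induction_on with | H u => ?_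
    rw [hψ, eq_comm, QuotientGroup.eq] at hv
    set c := u⁻¹ * (φ ^ k) u with hc
    have h1 : (φ ^ k) u = u * c := by rw [hc, mul_inv_cancel_left]
    have h2 := PGroup.aut_pow_apply (a := φ ^ k) h1 (hcentk k c hv) h
    rw [← pow_mul, mul_comm, pow_mul, hord, one_pow, MulAut.one_apply] at h2
    have h3 : c = 1 := PGroup.eq_one_of_pow_eq_one_coprime hE.1.1 hcop (left_eq_mul.mp h2)
    rw [h3, mul_one] at h1
    rw [QuotientGroup.eq_one_iff]
    exact hfix k hk u h1
  have hNcard : Nat.card N = p ^ (2 * n) := by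
    have h1 := card_eq_card_quotient_mul_card_subgroup (center P)
    rw [hE.2, hn, pow_succ] at h1
    exact (Nat.eq_of_mul_eq_mul_right hp.out.pos h1).symm
  have hd2n : h ∣ p ^ (2 * n) - 1 := by
    have := dvd_card_sub_one hh hψh hfpf (S := (⊤ : Subgroup N)) fun _ _ => mem_top _
    rwa [card_top, hNcard] at this
  -- the commutator form
  let ω : N → N → P := fun a b => ⁅a.out, b.out⁆
  have hω : ∀ u v : P, ω (u : N) (v : N) = ⁅u, v⁆ := by
    intro u v
    obtain ⟨⟨c, hc⟩, hu⟩ := QuotientGroup.mk_out_eq_mul (center P) u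
    obtain ⟨⟨d, hd⟩, hv⟩ := QuotientGroup.mk_out_eq_mul (center P) v
    show ⁅(u : N).out, (v : N).out⁆ = _
    rw [hu, hv]
    have hc' := mem_center_iff.mp hc
    have hd' := mem_center_iff.mp hd
    simp only [commutatorElement_def]
    calc u * c * (v * d) * (u * c)⁻¹ * (v * d)⁻¹ = u * (c * (v * d) * c⁻¹) * u⁻¹ * d⁻¹ * v⁻¹ := by group
      _ = u * v * (d * u⁻¹ * d⁻¹) * v⁻¹ := by rw [← hc' (v * d)]; group
      _ = _ := by rw [← hd' u⁻¹]; group
  have hcm := commutatorElement_mem_center hE
  have hl : ∀ a b v, ω (a * b) v = ω a v * ω b v := fun a b v => by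
    induction a using QuotientGroup.induction_on with | H a => ?_
    induction b using QuotientGroup.induction_on with | H b => ?_
    induction v using QuotientGroup.induction_on with | H v => ?_
    rw [← QuotientGroup.mk_mul, hω, hω, hω, PGroup.commutator_mul_left (mem_center_iff.mp (hcm b v) a)]
    exact mem_center_iff.mp (hcm a v) _
  have hinvr : ∀ a b, ω b a = (ω a b)⁻¹ := fun a b => (commutatorElement_inv _ _).symm
  have hr : ∀ u a b, ω u (a * b) = ω u a * ω u b := fun u a b => by
    rw [hinvr _ u, hl, mul_inv_rev, ← hinvr, ← hinvr]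
    exact (mem_center_iff.mp (hcm _ _) _)
  have hωψ : ∀ a b, ω (ψ a) (ψ b) = ω a b := fun a b => by
    induction a using QuotientGroup.induction_on with | H a => ?_
    induction b using QuotientGroup.induction_on with | H b => ?_
    have e : ∀ u : P, ψ (u : N) = ((φ u : P) : N) := fun u => by simpa using hψ 1 u
    rw [e, e, hω, hω, ← map_commutatorElement]
    exact hcent _ (hcm a b)
  have hω1 : ∀ s, ω s 1 = 1 := fun s => by simpa using hr s 1 1
  let perp : Subgroup N → Subgroup N := fun S =>
    { carrier := {v | ∀ s ∈ S, ω s v = 1}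
      one_mem' := fun s _ => hω1 s
      mul_mem' := fun {a b} ha hb s hs => by rw [hr, ha s hs, hb s hs, one_mul]
      inv_mem' := fun {a} ha s hs => by
        have := hr s a a⁻¹
        rw [mul_inv_cancel, hω1, ha s hs, one_mul] at this
        exact this.symm }
  have hperp_anti : ∀ {S T : Subgroup N}, S ≤ T → perp T ≤ perp S := fun h v hv s hs => hv s (h hs)
  have hperp_card : ∀ S : Subgroup N, Nat.card (perp S) * Nat.card S = Nat.card N := by
    intro S
    let mk' := QuotientGroup.mk' (center P)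
    have hsurj : Function.Surjective mk' := QuotientGroup.mk'_surjective _
    have h := relIndex_centralizer_eq (p := p) (S.comap mk') ⊤ (center P) hE.2
      (fun k hk g _ => (mem_center_iff.mp hk g).symm) (fun a _ b _ => hcm a b)
    have hcZ : center P ≤ S.comap mk' := fun c hc => by
      rw [mem_comap, show mk' c = 1 from (QuotientGroup.eq_one_iff c).mpr hc]
      exact one_mem _
    rw [coe_top, centralizer_univ, inf_eq_right.mpr hcZ, top_inf_eq, relIndex_top_right] at h
    have e : centralizer (S.comap mk' : Set P) = (perp S).comap mk' := by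
      ext v
      rw [mem_centralizer_iff, mem_comap]
      constructor
      · intro hv s hs
        obtain ⟨s, rfl⟩ := hsurj s
        exact (hω s v).trans (commutatorElement_eq_one_iff_mul_comm.mpr (hv s hs))
      · intro hv s hs
        exact commutatorElement_eq_one_iff_mul_comm.mp ((hω s v).symm.trans (hv _ hs))
    have hker : center P = (⊥ : Subgroup N).comap mk' := by
      rw [MonoidHom.comap_bot, QuotientGroup.ker_mk']
    rw [e, index_comap_of_surjective _ hsurj] at h
    nth_rewrite 1 [hker] at h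
    rw [relIndex_comap, map_comap_eq_self_of_surjective hsurj, relIndex_bot_left] at h
    rw [h]
    exact card_mul_index _
  have hperp_inv : ∀ S : Subgroup N, (∀ s ∈ S, ψ s ∈ S) → ∀ v ∈ perp S, ψ v ∈ perp S := by
    intro S hS v hv s hs
    have hSk : ∀ (k : ℕ), ∀ s ∈ S, (ψ ^ k) s ∈ S := by
      intro k
      induction k with
      | zero => intro s hs; exact hs
      | succ k ih => intro s hs; rw [pow_succ', MulAut.mul_apply]; exact hS _ (ih s hs)
    have e : s = ψ ((ψ ^ (h - 1)) s) := by
      rw [← MulAut.mul_apply, ← pow_succ', Nat.sub_add_cancel hh, hψh]; rfl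
    rw [e, hωψ]
    exact hv _ (hSk _ s hs)
  -- a maximal invariant isotropic subgroup
  obtain ⟨S, -, hSmax⟩ := Finite.exists_le_maximal (α := Subgroup N)
    (p := fun S => (∀ s ∈ S, ψ s ∈ S) ∧ S ≤ perp S) (a := ⊥)
    ⟨fun s hs => by rw [mem_bot.mp hs, map_one]; exact one_mem _, bot_le⟩
  obtain ⟨hSinv, hSiso⟩ := hSmax.prop
  by_cases hS : perp S ≤ S
  · right
    have h1 := hperp_card S
    rw [le_antisymm hS hSiso, hNcard, ← sq, mul_comm 2 n, pow_mul] at h1
    have h2 := dvd_card_sub_one hh hψh hfpf hSinv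
    rwa [Nat.pow_left_injective two_ne_zero h1] at h2
  obtain ⟨W, -, hWmin⟩ := Finite.exists_le_minimal (α := Subgroup N)
    (p := fun W => S < W ∧ W ≤ perp S ∧ ∀ w ∈ W, ψ w ∈ W) (a := perp S)
    ⟨lt_of_le_not_ge hSiso hS, le_rfl, hperp_inv S hSinv⟩
  obtain ⟨hSW, hWperp, hWinv⟩ := hWmin.prop
  let ψW : MulAut W := MulEquiv.ofBijective
    (MonoidHom.mk' (fun w : W => (⟨ψ w, hWinv w w.2⟩ : W)) fun a b => Subtype.ext (map_mul ψ a.1 b.1))
    (Finite.injective_iff_bijective.mp fun a b e =>
      Subtype.ext (ψ.injective (congrArg Subtype.val e)))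
  let SW := S.subgroupOf W
  have hmapSW : SW.map (ψW : W ≃* W).toMonoidHom = SW := by
    refine eq_of_le_of_card_ge ?_ (card_map_of_injective ψW.injective).ge
    rintro _ ⟨w, hw, rfl⟩
    exact hSinv _ hw
  let χ : MulAut (W ⧸ SW) := QuotientGroup.congr SW SW ψW hmapSW
  have hψW : ∀ (k : ℕ) (w : W), ((ψW ^ k) w : N) = (ψ ^ k) (w : N) := by
    intro k
    induction k with
    | zero => intro w; rfl
    | succ k ih =>
      intro w
      rw [pow_succ', pow_succ', MulAut.mul_apply, MulAut.mul_apply, ← ih]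
      rfl
  have hχ : ∀ (k : ℕ) (w : W), (χ ^ k) (w : W ⧸ SW) = (((ψW ^ k) w : W) : W ⧸ SW) := by
    intro k
    induction k with
    | zero => intro w; rfl
    | succ k ih =>
      intro w
      rw [pow_succ', pow_succ', MulAut.mul_apply, ih, MulAut.mul_apply]
      rfl
  haveI : Nontrivial (W ⧸ SW) := by
    obtain ⟨w, hw, hwS⟩ := SetLike.exists_of_lt hSW
    exact ⟨⟨((⟨w, hw⟩ : W) : W ⧸ SW), 1, fun e => hwS (by
      rw [QuotientGroup.eq_one_iff] at e; exact e)⟩⟩
  have hordχ : orderOf χ = h := by
    refine Nat.dvd_antisymm (orderOf_dvd_of_pow_eq_one ?_) ?_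
    · ext q
      induction q using QuotientGroup.induction_on with | H w => ?_
      rw [hχ]
      congr 1
      exact Subtype.ext (by rw [hψW, hψh]; rfl)
    · by_contra hk
      set k := orderOf χ with hkdef
      have hSk : ∀ (j : ℕ), ∀ s ∈ S, (ψ ^ j) s ∈ S := by
        intro j
        induction j with
        | zero => intro s hs; exact hs
        | succ j ih => intro s hs; rw [pow_succ', MulAut.mul_apply]; exact hSinv _ (ih s hs)
      let g : S → S := fun s => ⟨(ψ ^ k) s.1 * s.1⁻¹, mul_mem (hSk k _ s.2) (inv_mem s.2)⟩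
      have hgsurj : Function.Surjective g := by
        refine Finite.injective_iff_surjective.mp fun a b e => Subtype.ext ?_
        have e' : (ψ ^ k) a.1 * (a.1)⁻¹ = (ψ ^ k) b.1 * (b.1)⁻¹ := congrArg Subtype.val e
        refine mul_inv_eq_one.mp (hfpf k hk _ ?_)
        rw [map_mul, map_inv]
        calc (ψ ^ k) a.1 * ((ψ ^ k) b.1)⁻¹
            = (ψ ^ k) a.1 * (a.1)⁻¹ * a.1 * ((ψ ^ k) b.1)⁻¹ := by group
          _ = (ψ ^ k) b.1 * (b.1)⁻¹ * a.1 * ((ψ ^ k) b.1)⁻¹ := by rw [e']
          _ = a.1 * (b.1)⁻¹ := by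
            generalize (ψ ^ k) b.1 = c
            rw [mul_comm (c * (b.1)⁻¹) a.1, mul_assoc, mul_inv_cancel_comm]
      obtain ⟨w, hw, hwS⟩ := SetLike.exists_of_lt hSW
      have h1 : (χ ^ k) ((⟨w, hw⟩ : W) : W ⧸ SW) = ((⟨w, hw⟩ : W) : W ⧸ SW) := by
        rw [pow_orderOf_eq_one]; rfl
      rw [hχ, eq_comm, QuotientGroup.eq, mem_subgroupOf] at h1
      have h1' : w⁻¹ * (ψ ^ k) w ∈ S := by simpa [hψW] using h1
      obtain ⟨⟨s, hs⟩, hgs⟩ := hgsurj ⟨_, h1'⟩
      have e : (ψ ^ k) s * s⁻¹ = w⁻¹ * (ψ ^ k) w := congrArg Subtype.val hgs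
      refine hwS ?_
      have h2 : w * s⁻¹ = 1 := hfpf k hk _ (by
        rw [map_mul, map_inv]
        calc (ψ ^ k) w * ((ψ ^ k) s)⁻¹ = w * (w⁻¹ * (ψ ^ k) w) * ((ψ ^ k) s)⁻¹ := by group
          _ = w * ((ψ ^ k) s * s⁻¹) * ((ψ ^ k) s)⁻¹ := by rw [e]
          _ = w * s⁻¹ := by rw [mul_comm ((ψ ^ k) s) s⁻¹]; group)
      rw [mul_inv_eq_one.mp h2]
      exact hs
  have hexpW : ∀ q : W ⧸ SW, q ^ p = 1 := fun q => by
    induction q using QuotientGroup.induction_on with | H w => ?_
    rw [← QuotientGroup.mk_pow, QuotientGroup.eq_one_iff, show w ^ p = 1 from Subtype.ext (hexp w.1)]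
    exact one_mem _
  have hirr : ∀ T : Subgroup (W ⧸ SW), (∀ q ∈ T, χ q ∈ T) → T = ⊥ ∨ T = ⊤ := by
    intro T hT
    set T₀ := (T.comap (QuotientGroup.mk' SW)).map W.subtype with hT₀
    have hST₀ : S ≤ T₀ := fun s hs => ⟨⟨s, hSW.le hs⟩, by
      show ((⟨s, hSW.le hs⟩ : W) : W ⧸ SW) ∈ T
      rw [(QuotientGroup.eq_one_iff (N := SW) (⟨s, hSW.le hs⟩ : W)).mpr hs]; exact one_mem _, rfl⟩
    rcases eq_or_lt_of_le hST₀ with e | e
    · left
      refine (eq_bot_iff_forall _).mpr fun q hq => ?_
      induction q using QuotientGroup.induction_on with | H w => ?_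
      rw [QuotientGroup.eq_one_iff, mem_subgroupOf, e]
      exact ⟨w, hq, rfl⟩
    · right
      have hle := hWmin.2 ⟨e, (map_subtype_le _).trans hWperp, ?_⟩ (map_subtype_le _)
      · refine eq_top_iff.mpr fun q _ => ?_
        induction q using QuotientGroup.induction_on with | H w => ?_
        obtain ⟨w', hw', e'⟩ := hle w.2
        exact Subtype.ext e' ▸ hw'
      · rintro _ ⟨w, hw, rfl⟩
        refine ⟨ψW w, ?_, rfl⟩
        exact hT _ hw
  let ω' : W ⧸ SW → W ⧸ SW → P := fun a b => ω (a.out : W).1 (b.out : W).1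
  have hanti : ∀ {a b}, ω a b = 1 → ω b a = 1 := fun {a b} e => by rw [hinvr, e, inv_one]
  have hω' : ∀ u v : W, ω' (u : W ⧸ SW) (v : W ⧸ SW) = ω u.1 v.1 := by
    intro u v
    obtain ⟨⟨c, hc⟩, hu⟩ := QuotientGroup.mk_out_eq_mul SW u
    obtain ⟨⟨d, hd⟩, hv⟩ := QuotientGroup.mk_out_eq_mul SW v
    show ω ((u : W ⧸ SW).out : W).1 ((v : W ⧸ SW).out : W).1 = _
    have e1 : ω u.1 d.1 = 1 := hanti ((hWperp u.2) _ hd)
    have e2 : ω c.1 v.1 = 1 := (hWperp v.2) _ hc
    have e3 : ω c.1 d.1 = 1 := (hSiso hd) _ hc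
    rw [hu, hv, Subgroup.coe_mul, Subgroup.coe_mul, hl, hr, hr]
    show ω u.1 v.1 * ω u.1 d.1 * (ω c.1 v.1 * ω c.1 d.1) = _
    rw [e1, e2, e3]
    simp
  obtain ⟨i, hi⟩ := exists_dvd_pow_add_one hexpW χ hirr ω'
    (fun a b v => by
      induction a using QuotientGroup.induction_on with | H a => ?_
      induction b using QuotientGroup.induction_on with | H b => ?_
      induction v using QuotientGroup.induction_on with | H v => ?_
      rw [← QuotientGroup.mk_mul, hω', hω', hω', Subgroup.coe_mul, hl])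
    (fun u a b => by
      induction a using QuotientGroup.induction_on with | H a => ?_
      induction b using QuotientGroup.induction_on with | H b => ?_
      induction u using QuotientGroup.induction_on with | H u => ?_
      rw [← QuotientGroup.mk_mul, hω', hω', hω', Subgroup.coe_mul, hr])
    (fun v hv => by
      induction v using QuotientGroup.induction_on with | H v => ?_
      rw [QuotientGroup.eq_one_iff, mem_subgroupOf]
      have hST : S ≤ W ⊓ perp W := le_inf hSW.le fun s hs w hw => hanti ((hWperp hw) s hs)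
      have hle := hSmax.2 (y := W ⊓ perp W) ⟨fun t ht => ⟨hWinv t ht.1, hperp_inv W hWinv t ht.2⟩,
        inf_le_right.trans (hperp_anti inf_le_left)⟩ hST
      refine hle ⟨v.2, fun w hw => ?_⟩
      have := hv ((⟨w, hw⟩ : W) : W ⧸ SW)
      rwa [hω'] at this)
    (fun u v => by
      induction u using QuotientGroup.induction_on with | H u => ?_
      induction v using QuotientGroup.induction_on with | H v => ?_
      show ω' ((ψW u : W) : W ⧸ SW) ((ψW v : W) : W ⧸ SW) = _
      rw [hω', hω']
      exact hωψ _ _)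
  rw [hordχ] at hi
  exact mem_zpowers_neg_one hi hd2n hp.out.pos

end Cfsg.Agent.Extraspecial
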